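/- Open quotients of spectral spaces by spectral relations are spectral (helper92). -/
import Groth.Agent.SpectralTopology.Spectral
import Mathlib.Topology.Sober

set_option autoImplicit false

open Topology TopologicalSpace Set
open Groth.SpectralTopology

namespace Groth.AlgStSpectral

variable {W Y X : Type*} [TopologicalSpace W] [TopologicalSpace Y] [TopologicalSpace X]
  [SpectralSpace W] [SpectralSpace Y] {a b : W → Y} {f : Y → X}

lemma preimage_image_eq_rel (hab : ∀ w, f (a w) = f (b w))
    (hrel : ∀ y y', f y = f y' → ∃ w, a w = y ∧ b w = y') (V : Set Y) :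
    f ⁻¹' (f '' V) = a '' (b ⁻¹' V) := by
  ext y
  constructor
  · rintro ⟨v, hv, h⟩
    obtain ⟨w, rfl, rfl⟩ := hrel y v h.symm
    exact ⟨w, hv, rfl⟩
  · rintro ⟨w, hw, rfl⟩
    exact ⟨b w, hw, (hab w).symm⟩

lemma isCompact_preimage_image (ha : IsSpectralMap a) (hb : IsSpectralMap b)
    (hab : ∀ w, f (a w) = f (b w)) (hrel : ∀ y y', f y = f y' → ∃ w, a w = y ∧ b w = y')
    {V : Set Y} (hVo : IsOpen V) (hVc : IsCompact V) : IsCompact (f ⁻¹' (f '' V)) := by
  rw [preimage_image_eq_rel hab hrel]
  exact (hb.isCompact_preimage_of_isOpen hVo hVc).image ha.continuous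

lemma isClosed_ct_fiber (ha : IsSpectralMap a) (hb : IsSpectralMap b)
    (hab : ∀ w, f (a w) = f (b w)) (hrel : ∀ y y', f y = f y' → ∃ w, a w = y ∧ b w = y') (y : Y) :
    IsClosed[constructibleTopology Y] (f ⁻¹' (f '' {y})) := by
  rw [preimage_image_eq_rel hab hrel]
  have h1 : IsClosed[constructibleTopology Y] ({y} : Set Y) :=
    @isClosed_singleton Y (constructibleTopology Y) (@T2Space.t1Space Y (constructibleTopology Y) t2Space_ct) y
  have h2 : IsClosed[constructibleTopology W] (b ⁻¹' {y}) :=
    @IsClosed.preimage W Y (constructibleTopology W) (constructibleTopology Y) b (continuous_ct hb) _ h1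
  exact @IsCompact.isClosed Y (constructibleTopology Y) t2Space_ct _
    (@IsCompact.image W Y (constructibleTopology W) (constructibleTopology Y) _ a
      (isCompact_ct_of_isClosed_ct h2) (continuous_ct ha))

/-- an open quotient of a spectral space by a relation coming from a spectral space -/
theorem spectralSpace_of_rel (ha : IsSpectralMap a) (hb : IsSpectralMap b)
    (hf : Continuous f) (ho : IsOpenMap f) (hs : Function.Surjective f)
    (hab : ∀ w, f (a w) = f (b w)) (hrel : ∀ y y', f y = f y' → ∃ w, a w = y ∧ b w = y') :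
    SpectralSpace X := by
  classical
  haveI : CompactSpace X := hs.compactSpace hf
  haveI hP : PrespectralSpace X := by
    refine .of_isTopologicalBasis (B := {U | ∃ V : Set Y, IsOpen V ∧ IsCompact V ∧ f '' V = U}) ?_ ?_
    · refine isTopologicalBasis_of_isOpen_of_nhds ?_ fun x U hxU hU => ?_
      · rintro _ ⟨V, hV, -, rfl⟩
        exact ho V hV
      · obtain ⟨y, rfl⟩ := hs x
        obtain ⟨V, ⟨hVo, hVc⟩, hyV, hVU⟩ :=
          PrespectralSpace.isTopologicalBasis.exists_subset_of_mem_open (show y ∈ f ⁻¹' U from hxU) (hU.preimage hf)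
        exact ⟨_, ⟨V, hVo, hVc, rfl⟩, ⟨y, hyV, rfl⟩, image_subset_iff.2 hVU⟩
    · rintro _ ⟨V, -, hVc, rfl⟩
      exact hVc.image hf
  -- preimages of compact opens are compact
  have hpre : ∀ O : Set X, IsOpen O → IsCompact O → IsCompact (f ⁻¹' O) := by
    intro O hOo hOc
    let ι := {V : Set Y // IsOpen V ∧ IsCompact V ∧ V ⊆ f ⁻¹' O}
    obtain ⟨t, ht⟩ := hOc.elim_finite_subcover (fun V : ι => f '' V.1) (fun V => ho _ V.2.1) (by
      intro x hx
      obtain ⟨y, rfl⟩ := hs x
      obtain ⟨V, ⟨hVo, hVc⟩, hyV, hVO⟩ :=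
        PrespectralSpace.isTopologicalBasis.exists_subset_of_mem_open (show y ∈ f ⁻¹' O from hx) (hOo.preimage hf)
      exact mem_iUnion.2 ⟨⟨V, hVo, hVc, hVO⟩, y, hyV, rfl⟩)
    have e : f ⁻¹' O = ⋃ V ∈ t, f ⁻¹' (f '' V.1) := by
      refine Subset.antisymm (fun y hy => ?_) (iUnion₂_subset fun V _ => ?_)
      · simpa using ht hy
      · exact fun y hy => image_subset_iff.2 V.2.2.2 hy
    rw [e]
    exact t.isCompact_biUnion fun V _ => isCompact_preimage_image ha hb hab hrel V.2.1 V.2.2.1
  haveI : QuasiSeparatedSpace X := ⟨fun U V hU hUc hV hVc => by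
    rw [← image_preimage_eq (U ∩ V) hs, preimage_inter]
    exact (QuasiSeparatedSpace.inter_isCompact _ _ (hU.preimage hf) (hpre U hU hUc) (hV.preimage hf)
      (hpre V hV hVc)).image hf⟩
  haveI : T0Space X := by
    refine ⟨fun x x' h => ?_⟩
    obtain ⟨y, rfl⟩ := hs x
    obtain ⟨y', rfl⟩ := hs x'
    have hcl : closure (f ⁻¹' {f y}) = closure (f ⁻¹' {f y'}) := by
      rw [← ho.preimage_closure_eq_closure_preimage hf, ← ho.preimage_closure_eq_closure_preimage hf,
        inseparable_iff_closure_eq.1 h]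
    have key : ∀ z, IsClosed[constructibleTopology Y] (f ⁻¹' {f z}) := fun z => by
      simpa using isClosed_ct_fiber ha hb hab hrel z
    let D := closure (f ⁻¹' {f y})
    let C := irreducibleComponent (⟨y, subset_closure rfl⟩ : D)
    have hC : IsIrreducible ((↑) '' C : Set Y) :=
      isIrreducible_irreducibleComponent.image _ continuous_subtype_val.continuousOn
    have hCc : IsClosed ((↑) '' C : Set Y) :=
      isClosed_closure.isClosedEmbedding_subtypeVal.isClosedMap _ isClosed_irreducibleComponent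
    obtain ⟨η, hη⟩ := QuasiSober.sober hC hCc
    have hηD : η ∈ D := by
      obtain ⟨⟨η', hη'⟩, -, rfl⟩ := hη.mem
      exact hη'
    have key2 : ∀ z, closure (f ⁻¹' {f z}) = D → η ∈ f ⁻¹' {f z} := by
      intro z hz
      obtain ⟨e, he, hspec⟩ := exists_specializes_of_mem_closure (key z) (hz.symm ▸ hηD)
      have heD : e ∈ D := hz ▸ subset_closure he
      have hmax : closure {(⟨e, heD⟩ : D)} = C := by
        refine eq_irreducibleComponent isIrreducible_singleton.closure.isPreirreducible fun d hd => ?_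
        rw [closure_subtype, image_singleton]
        have : (d : Y) ∈ closure {η} := by rw [hη.def]; exact ⟨d, hd, rfl⟩
        exact (specializes_iff_closure_subset.1 hspec) this
      have : η ⤳ e := by
        rw [specializes_iff_mem_closure, hη.def]
        exact ⟨⟨e, heD⟩, hmax ▸ subset_closure rfl, rfl⟩
      rwa [(this.antisymm hspec).eq]
    exact (key2 y rfl).symm.trans (key2 y' hcl.symm)
  haveI : QuasiSober X := ⟨fun {Z} hZ hZc => by
    let ι := {O : Set X // IsOpen O ∧ IsCompact O ∧ (Z ∩ O).Nonempty}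
    obtain ⟨y, hy⟩ := nonempty_iInter_ct (ι := Option ι) (fun i => i.elim (f ⁻¹' Z) fun O => f ⁻¹' O.1)
      (fun i => by
        cases i with
        | none => exact isClosed_ct_of_isClosed (hZc.preimage hf)
        | some O => exact isClosed_ct (O.2.1.preimage hf) (hpre _ O.2.1 O.2.2.1))
      (fun u => by
        obtain ⟨x, hxZ, hx⟩ := isIrreducible_iff_sInter.1 hZ (u.eraseNone.image Subtype.val)
          (by simp only [Finset.mem_image]; rintro _ ⟨O, -, rfl⟩; exact O.2.1)
          (by simp only [Finset.mem_image]; rintro _ ⟨O, -, rfl⟩; exact O.2.2.2)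
        obtain ⟨y, rfl⟩ := hs x
        refine ⟨y, mem_iInter₂.2 fun i hi => ?_⟩
        cases i with
        | none => exact hxZ
        | some O => exact hx O.1 (Finset.mem_image.2 ⟨O, Finset.mem_eraseNone.2 hi, rfl⟩))
    rw [mem_iInter] at hy
    refine ⟨f y, Subset.antisymm (hZc.closure_subset_iff.2 (singleton_subset_iff.2 (hy none))) fun z hz => ?_⟩
    refine specializes_iff_mem_closure.1 (specializes_iff_forall_open.2 fun V hV hzV => ?_)
    obtain ⟨O, ⟨hOo, hOc⟩, hzO, hOV⟩ := hP.isTopologicalBasis.exists_subset_of_mem_open hzV hV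
    exact hOV (hy (some ⟨O, hOo, hOc, z, hz, hzO⟩))⟩
  exact ⟨⟩

end Groth.AlgStSpectral
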