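/- Affine smooth charts of stacks with quasi-compact diagonal have spectral image (helper92). -/
import Groth.Agent.AlgStSpectral.Quotient
import Groth.Agent.AlgStBasic.StQc
import Mathlib.AlgebraicGeometry.Morphisms.QuasiCompact

set_option autoImplicit false
set_option backward.isDefEq.respectTransparency false
set_option backward.isDefEq.respectTransparency.types false

universe u

open CategoryTheory CategoryTheory.Limits AlgebraicGeometry Opposite Topology
open Groth.StkBase Groth.AlgSpBasic Groth.AlgStBasic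

noncomputable section

namespace Groth.AlgStSpectral

variable {S : Scheme.{u}} [QuasiSeparatedSpace S] {𝒳 : AlgSt.Cat S}

theorem spectralSpace_of_isAffine (X : Scheme.{u}) [IsAffine X] : SpectralSpace X :=
  haveI : CompactSpace X := inferInstance
  haveI : SpectralSpace ↥(Spec Γ(X, ⊤)) := inferInstanceAs (SpectralSpace (PrimeSpectrum Γ(X, ⊤)))
  X.isoSpec.hom.homeomorph.isOpenEmbedding.spectralSpace

theorem isQuasiCompactMor_chart (hX : AlgSt.IsAlgStack Scheme.fppfPrecoverage 𝒳)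
    (hΔ : AlgSt.RepByAlgSpWith AlgSp.IsQuasiCompactMor (FibCat.diag (FibCat.toSelf 𝒳)))
    (V : Over S) [IsAffine V.left] (x : FibCat.overCat V ⥤ᵇ 𝒳) :
    AlgSt.IsQuasiCompactMor Scheme.fppfPrecoverage x := by
  have hV := isAlgStack_overCat (S := S) V
  have hY : AlgSt.IsAlgStack Scheme.fppfPrecoverage (FibCat.selfOver (Over S) : AlgSt.Cat S) :=
    isAlgStack_selfOver
  let g := FibCat.toSelf 𝒳
  let p := BasedFunctor.comp x g
  let Γ : (FibCat.overCat V : AlgSt.Cat S) ⥤ᵇ FibCat.fp p g :=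
    FibCat.fpLift (F := p) (G := g) (BasedFunctor.id _) x (Iso.refl _)
  have h : AlgSt.IsQuasiCompactMor Scheme.fppfPrecoverage p :=
    isQuasiCompactMor_of_isSurjective hV hV hY (f := BasedFunctor.id _)
      (p := FibCat.toSelf (FibCat.overCat V)) (selfIso _ _) (fun z => ⟨z, map_id z⟩)
      (isQuasiCompactMor_toSelf hV isQuasiCompact_overCat)
  have hP := isAlgStack_fp hY.isStack hY.diag hV hX p g
  have hP' := isAlgStack_fp hY.isStack hY.diag hX hV g p
  have hΓ : AlgSt.RepByAlgSpWith AlgSp.IsQuasiCompactMor Γ := repWith_graph x hΔ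
  have h₁ : AlgSt.IsQuasiCompactMor Scheme.fppfPrecoverage Γ :=
    (repWith_qc_iff_isQuasiCompactMor hV hP (repWith_repByAlgSp1 hΓ)).1 hΓ
  have h₂ : AlgSt.IsQuasiCompactMor Scheme.fppfPrecoverage (FibCat.fpSnd p g) :=
    isQuasiCompactMor_of_isSurjective hP' hP hX (f := fpSwap g p) (q := FibCat.fpSnd p g)
      (p := FibCat.fpFst g p) (Iso.refl _) (bijective_map_of_isEquivOver (isEquivOver_fpSwap g p)).2
      (isQuasiCompactMor_fpFst hV hY hX g h)
  exact isQuasiCompactMor_comp hV hP hX h₁ h₂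

theorem exists_rel (hX : AlgSt.IsAlgStack Scheme.fppfPrecoverage 𝒳)
    (hΔ : AlgSt.RepByAlgSpWith AlgSp.IsQuasiCompactMor (FibCat.diag (FibCat.toSelf 𝒳)))
    (V : Over S) [IsAffine V.left] (x : FibCat.overCat V ⥤ᵇ 𝒳) :
    ∃ (W : Over S) (_ : IsAffine W.left) (a b : W ⟶ V),
      (∀ w, AlgSt.Points.ofChart x (a.left w) = AlgSt.Points.ofChart x (b.left w)) ∧
      ∀ v v', AlgSt.Points.ofChart x v = AlgSt.Points.ofChart x v' →
        ∃ w, a.left w = v ∧ b.left w = v' := by
  have hV := isAlgStack_overCat (S := S) V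
  have hF := isAlgStack_fp hX.isStack hX.diag hV hV x x
  obtain ⟨W, w, hW, -, hws⟩ := isQuasiCompactMor_chart hX hΔ V x _ hV isQuasiCompact_overCat x
  obtain ⟨a, ⟨α⟩⟩ := exists_iso_overMap (BasedFunctor.comp w (FibCat.fpFst x x))
  obtain ⟨b, ⟨β⟩⟩ := exists_iso_overMap (BasedFunctor.comp w (FibCat.fpSnd x x))
  have hpt : ∀ (c : W ⟶ V) (t : ↥W.left),
      AlgSt.Points.map (AlgSt.overMap c) (AlgSt.Points.ofChart (BasedFunctor.id _) t) =
        AlgSt.Points.ofChart (BasedFunctor.id (FibCat.overCat V)) (c.left t) := fun c t => by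
    rw [← ofChart_overMap c (BasedFunctor.id _) t, ofChart_eq_map (BasedFunctor.comp (AlgSt.overMap c) _), map_comp, map_id]
  have ha : ∀ t, AlgSt.Points.map (FibCat.fpFst x x) (AlgSt.Points.ofChart w t) =
      AlgSt.Points.ofChart (BasedFunctor.id (FibCat.overCat V)) (a.left t) := fun t => by
    rw [ofChart_eq_map w, ← map_comp, map_eq_of_iso α, hpt]
  have hb : ∀ t, AlgSt.Points.map (FibCat.fpSnd x x) (AlgSt.Points.ofChart w t) =
      AlgSt.Points.ofChart (BasedFunctor.id (FibCat.overCat V)) (b.left t) := fun t => by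
    rw [ofChart_eq_map w, ← map_comp, map_eq_of_iso β, hpt]
  refine ⟨W, hW, a, b, fun t => ?_, fun v v' h => ?_⟩
  · rw [ofChart_eq_map x, ofChart_eq_map x, ← ha, ← hb, ← map_comp, ← map_comp]
    exact congrFun (map_eq_of_iso (FibCat.fpIso x x)) _
  · rw [ofChart_eq_map x, ofChart_eq_map x] at h
    obtain ⟨z, hz₁, hz₂⟩ := exists_points_fp hV.isStack.1 hX.isStack.1 hV.isStack.1 x x _ _ h
    obtain ⟨t, rfl⟩ := surjective_ofChart hF.isStack.1 hws z
    exact ⟨t, bijective_ofChart_id.1 ((ha t).symm.trans hz₁), bijective_ofChart_id.1 ((hb t).symm.trans hz₂)⟩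

theorem spectralSpace_range (hX : AlgSt.IsAlgStack Scheme.fppfPrecoverage 𝒳)
    (hΔ : AlgSt.RepByAlgSpWith AlgSp.IsQuasiCompactMor (FibCat.diag (FibCat.toSelf 𝒳)))
    (V : Over S) [IsAffine V.left] (x : FibCat.overCat V ⥤ᵇ 𝒳)
    (hx : AlgSt.RepByAlgSpWith (AlgSp.LocP @Smooth) x) :
    SpectralSpace ↥(Set.range (AlgSt.Points.ofChart x)) := by
  obtain ⟨W, hW, a, b, hab, hrel⟩ := exists_rel hX hΔ V x
  haveI := spectralSpace_of_isAffine V.left
  haveI := spectralSpace_of_isAffine W.left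
  exact spectralSpace_of_rel a.left.isSpectralMap b.left.isSpectralMap
    ((continuous_ofChart hX x).subtype_mk _)
    ((isOpenMap_ofChart_of_smooth hX.isStack.1 hx).subtype_mk _)
    (f := Set.rangeFactorization (AlgSt.Points.ofChart x)) Set.rangeFactorization_surjective
    (fun w => Subtype.ext (hab w)) fun v v' h => hrel v v' (congrArg Subtype.val h)

theorem locally_spectral (hX : AlgSt.IsAlgStack Scheme.fppfPrecoverage 𝒳)
    (hΔ : AlgSt.RepByAlgSpWith AlgSp.IsQuasiCompactMor (FibCat.diag (FibCat.toSelf 𝒳)))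
    (z : AlgSt.Points 𝒳) :
    ∃ U : Set (AlgSt.Points 𝒳), IsOpen U ∧ z ∈ U ∧ SpectralSpace ↥U := by
  obtain ⟨V, x, hV, hx, hz⟩ := exists_affine_chart_covering hX (isCompact_singleton (x := z))
  exact ⟨_, (isOpenMap_ofChart_of_smooth hX.isStack.1 hx).isOpen_range, hz rfl,
    spectralSpace_range hX hΔ V x hx⟩

end Groth.AlgStSpectral
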